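import Cfsg.Agent.ChevSteinberg.Data
import Cfsg.Agent.ChevSteinberg.CenterData
import Cfsg.Agent.ChevMult.System

/-!
The tables for `G₂` and `F₄`.
-/

set_option autoImplicit false

namespace CfsgLib.ChevMult

open Cfsg.Lie CfsgLib.Chevalley CfsgLib.ChevSteinberg

/-- The steps for the commutator relations. -/
def pairStepsG2 : List PairStep :=
    [⟨6, 8, [6], [-1, -1], 0, 0, []⟩,
     ⟨6, 9, [6], [0, -1], 0, 0, []⟩,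
     ⟨6, 11, [6], [-1, 0], 0, 0, []⟩,
     ⟨7, 10, [7], [-1, -3], 0, 0, []⟩,
     ⟨7, 11, [7], [-1, 0], 0, 0, []⟩,
     ⟨8, 6, [], [], 0, 0, []⟩,
     ⟨8, 10, [8], [-1, -3], 0, 0, []⟩,
     ⟨8, 11, [8], [-1, 0], 0, 0, []⟩,
     ⟨9, 6, [], [], 0, 0, []⟩,
     ⟨9, 10, [9], [-1, -3], 0, 0, []⟩,
     ⟨9, 11, [9], [-1, 0], 0, 0, []⟩,
     ⟨10, 7, [], [], 0, 0, []⟩,
     ⟨10, 8, [], [], 0, 0, []⟩,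
     ⟨10, 9, [], [], 0, 0, []⟩,
     ⟨10, 11, [10], [-1, 0], 0, 0, []⟩,
     ⟨11, 6, [], [], 0, 0, []⟩,
     ⟨11, 7, [], [], 0, 0, []⟩,
     ⟨11, 8, [], [], 0, 0, []⟩,
     ⟨11, 9, [], [], 0, 0, []⟩,
     ⟨11, 10, [], [], 0, 0, []⟩,
     ⟨6, 10, [6, 11], [-1, -3], 0, 0, []⟩,
     ⟨7, 9, [7, 10], [0, -1], 0, 0, []⟩,
     ⟨8, 9, [8, 11], [0, -1], 0, 0, []⟩,
     ⟨9, 7, [10], [], 0, 0, []⟩,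
     ⟨9, 8, [11], [], 0, 0, []⟩,
     ⟨10, 6, [11], [], 0, 0, []⟩,
     ⟨6, 7, [6, 8, 9, 10, 11], [-1, -2], 0, 0, []⟩,
     ⟨7, 6, [8, 9, 10, 11], [], 0, 0, []⟩,
     ⟨7, 8, [7, 9, 10, 11], [-1, -1], 0, 0, []⟩,
     ⟨8, 7, [9, 10, 11], [], 0, 0, []⟩]
  
/-- The steps for the commutator relations. -/
def pairStepsF4 : List PairStep :=
    [⟨24, 26, [24], [0, -1, -1, -1], 0, 0, []⟩,
     ⟨24, 27, [24], [-1, 0, 1, 0], 0, 0, []⟩,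
     ⟨24, 29, [24], [0, 0, -1, 0], 0, 0, []⟩,
     ⟨24, 31, [24], [0, 0, -1, -1], 0, 0, []⟩,
     ⟨24, 33, [24], [0, 0, -1, 0], 0, 0, []⟩,
     ⟨24, 34, [24], [-1, 0, -1, 0], 0, 0, []⟩,
     ⟨24, 36, [24], [0, 0, -1, 0], 0, 0, []⟩,
     ⟨24, 38, [24], [0, -1, -1, 0], 0, 0, []⟩,
     ⟨24, 39, [24], [0, -1, -1, 0], 0, 0, []⟩,
     ⟨24, 40, [24], [0, 0, -1, 0], 0, 0, []⟩,
     ⟨24, 42, [24], [0, 0, -1, -1], 0, 0, []⟩,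
     ⟨24, 44, [24], [0, 0, -1, 0], 0, 0, []⟩,
     ⟨24, 47, [24], [0, 0, -1, 0], 0, 0, []⟩,
     ⟨25, 26, [25], [0, -1, -1, -1], 0, 0, []⟩,
     ⟨25, 28, [25], [-1, 0, 0, 1], 0, 0, []⟩,
     ⟨25, 29, [25], [-1, 0, 0, -1], 0, 0, []⟩,
     ⟨25, 32, [25], [0, 0, 0, -1], 0, 0, []⟩,
     ⟨25, 33, [25], [0, 0, 0, -1], 0, 0, []⟩,
     ⟨25, 35, [25], [-1, 0, 0, -1], 0, 0, []⟩,
     ⟨25, 36, [25], [-1, 0, 0, 1], 0, 0, []⟩,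
     ⟨25, 37, [25], [0, -1, -1, -1], 0, 0, []⟩,
     ⟨25, 39, [25], [0, 0, 0, -1], 0, 0, []⟩,
     ⟨25, 40, [25], [0, 0, 0, -1], 0, 0, []⟩,
     ⟨25, 43, [25], [0, 0, 0, -1], 0, 0, []⟩,
     ⟨25, 44, [25], [0, 0, 0, -1], 0, 0, []⟩,
     ⟨25, 46, [25], [0, 0, -1, -1], 0, 0, []⟩,
     ⟨26, 24, [], [], 0, 0, []⟩,
     ⟨26, 25, [], [], 0, 0, []⟩,
     ⟨26, 28, [26], [-1, 0, -1, 0], 0, 0, []⟩,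
     ⟨26, 29, [26], [0, 0, -1, 0], 0, 0, []⟩,
     ⟨26, 32, [26], [0, 0, 0, -1], 0, 0, []⟩,
     ⟨26, 33, [26], [0, 0, -1, 0], 0, 0, []⟩,
     ⟨26, 35, [26], [-1, 0, 0, -1], 0, 0, []⟩,
     ⟨26, 36, [26], [0, 0, -1, 0], 0, 0, []⟩,
     ⟨26, 38, [26], [0, -1, -1, 0], 0, 0, []⟩,
     ⟨26, 39, [26], [0, 0, 0, -1], 0, 0, []⟩,
     ⟨26, 40, [26], [0, 0, -1, 0], 0, 0, []⟩,
     ⟨26, 43, [26], [0, 0, 0, -1], 0, 0, []⟩,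
     ⟨26, 44, [26], [0, 0, -1, 0], 0, 0, []⟩,
     ⟨26, 47, [26], [0, 0, -1, 0], 0, 0, []⟩,
     ⟨27, 24, [], [], 0, 0, []⟩,
     ⟨27, 30, [27], [0, 0, -1, 0], 0, 0, []⟩,
     ⟨27, 31, [27], [-1, -1, 0, 0], 0, 0, []⟩,
     ⟨27, 32, [27], [-1, -1, -2, 0], 0, 0, []⟩,
     ⟨27, 34, [27], [0, -1, -1, 0], 0, 0, []⟩,
     ⟨27, 37, [27], [-1, 0, 0, 0], 0, 0, []⟩,
     ⟨27, 38, [27], [-1, 0, 0, 0], 0, 0, []⟩,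
     ⟨27, 40, [27], [0, 0, -1, 0], 0, 0, []⟩,
     ⟨27, 41, [27], [0, 0, -1, 0], 0, 0, []⟩,
     ⟨27, 42, [27], [0, 0, -1, -1], 0, 0, []⟩,
     ⟨27, 45, [27], [-1, 0, 0, 0], 0, 0, []⟩,
     ⟨27, 46, [27], [-1, 0, 0, 0], 0, 0, []⟩,
     ⟨27, 47, [27], [-1, 0, 0, 0], 0, 0, []⟩,
     ⟨28, 25, [], [], 0, 0, []⟩,
     ⟨28, 26, [], [], 0, 0, []⟩,
     ⟨28, 30, [28], [0, 0, -1, 0], 0, 0, []⟩,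
     ⟨28, 31, [28], [-1, -1, 0, 0], 0, 0, []⟩,
     ⟨28, 32, [28], [0, 0, 0, -1], 0, 0, []⟩,
     ⟨28, 35, [28], [-1, -1, 0, 0], 0, 0, []⟩,
     ⟨28, 37, [28], [-1, 0, 0, 0], 0, 0, []⟩,
     ⟨28, 39, [28], [-1, 0, 0, 0], 0, 0, []⟩,
     ⟨28, 40, [28], [0, 0, -1, 0], 0, 0, []⟩,
     ⟨28, 41, [28], [0, 0, -1, 0], 0, 0, []⟩,
     ⟨28, 43, [28], [0, 0, 0, -1], 0, 0, []⟩,
     ⟨28, 45, [28], [-1, 0, 0, 0], 0, 0, []⟩,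
     ⟨28, 46, [28], [-1, 0, 0, 0], 0, 0, []⟩,
     ⟨28, 47, [28], [-1, 0, 0, 0], 0, 0, []⟩,
     ⟨29, 24, [], [], 0, 0, []⟩,
     ⟨29, 25, [], [], 0, 0, []⟩,
     ⟨29, 26, [], [], 0, 0, []⟩,
     ⟨29, 30, [29], [-1, -1, 0, 0], 0, 0, []⟩,
     ⟨29, 31, [29], [-1, -1, 0, 0], 0, 0, []⟩,
     ⟨29, 32, [29], [0, 0, 0, -1], 0, 0, []⟩,
     ⟨29, 36, [29], [-1, -1, 0, 0], 0, 0, []⟩,
     ⟨29, 38, [29], [-1, 0, 0, 0], 0, 0, []⟩,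
     ⟨29, 39, [29], [-1, 0, 0, 0], 0, 0, []⟩,
     ⟨29, 40, [29], [0, 0, 0, -1], 0, 0, []⟩,
     ⟨29, 42, [29], [0, 0, -1, -1], 0, 0, []⟩,
     ⟨29, 43, [29], [0, 0, 0, -1], 0, 0, []⟩,
     ⟨29, 45, [29], [-1, 0, 0, 0], 0, 0, []⟩,
     ⟨29, 46, [29], [-1, 0, 0, 0], 0, 0, []⟩,
     ⟨29, 47, [29], [-1, 0, 0, 0], 0, 0, []⟩,
     ⟨30, 27, [], [], 0, 0, []⟩,
     ⟨30, 28, [], [], 0, 0, []⟩,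
     ⟨30, 29, [], [], 0, 0, []⟩,
     ⟨30, 31, [30], [0, 0, -1, -1], 0, 0, []⟩,
     ⟨30, 32, [30], [0, 0, 0, -1], 0, 0, []⟩,
     ⟨30, 34, [30], [0, 0, 0, -1], 0, 0, []⟩,
     ⟨30, 35, [30], [0, 0, -1, -1], 0, 0, []⟩,
     ⟨30, 37, [30], [0, -1, 0, -1], 0, 0, []⟩,
     ⟨30, 38, [30], [0, 0, -1, -1], 0, 0, []⟩,
     ⟨30, 39, [30], [0, 0, 0, -1], 0, 0, []⟩,
     ⟨30, 40, [30], [0, 0, 0, -1], 0, 0, []⟩,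
     ⟨30, 44, [30], [0, 0, 0, -1], 0, 0, []⟩,
     ⟨30, 45, [30], [0, 0, 0, -1], 0, 0, []⟩,
     ⟨30, 46, [30], [0, 0, -1, -1], 0, 0, []⟩,
     ⟨31, 24, [], [], 0, 0, []⟩,
     ⟨31, 27, [], [], 0, 0, []⟩,
     ⟨31, 28, [], [], 0, 0, []⟩,
     ⟨31, 29, [], [], 0, 0, []⟩,
     ⟨31, 30, [], [], 0, 0, []⟩,
     ⟨31, 32, [31], [0, 0, 0, -1], 0, 0, []⟩,
     ⟨31, 34, [31], [0, 0, 0, -1], 0, 0, []⟩,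
     ⟨31, 36, [31], [0, 0, -1, 0], 0, 0, []⟩,
     ⟨31, 37, [31], [0, 0, -1, 0], 0, 0, []⟩,
     ⟨31, 38, [31], [0, -1, -1, 0], 0, 0, []⟩,
     ⟨31, 39, [31], [0, 0, 0, -1], 0, 0, []⟩,
     ⟨31, 40, [31], [0, 0, -1, 0], 0, 0, []⟩,
     ⟨31, 44, [31], [0, 0, -1, 0], 0, 0, []⟩,
     ⟨31, 45, [31], [0, 0, 0, -1], 0, 0, []⟩,
     ⟨31, 47, [31], [0, 0, -1, 0], 0, 0, []⟩,
     ⟨32, 25, [], [], 0, 0, []⟩,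
     ⟨32, 26, [], [], 0, 0, []⟩,
     ⟨32, 27, [], [], 0, 0, []⟩,
     ⟨32, 28, [], [], 0, 0, []⟩,
     ⟨32, 29, [], [], 0, 0, []⟩,
     ⟨32, 30, [], [], 0, 0, []⟩,
     ⟨32, 31, [], [], 0, 0, []⟩,
     ⟨32, 35, [32], [0, -1, -1, 0], 0, 0, []⟩,
     ⟨32, 36, [32], [0, 0, -1, 0], 0, 0, []⟩,
     ⟨32, 37, [32], [0, 0, -1, 0], 0, 0, []⟩,
     ⟨32, 38, [32], [0, -1, -1, 0], 0, 0, []⟩,
     ⟨32, 39, [32], [0, -1, -1, 0], 0, 0, []⟩,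
     ⟨32, 40, [32], [0, 0, -1, 0], 0, 0, []⟩,
     ⟨32, 44, [32], [0, 0, -1, 0], 0, 0, []⟩,
     ⟨32, 46, [32], [0, 0, -1, -1], 0, 0, []⟩,
     ⟨32, 47, [32], [0, 0, -1, 0], 0, 0, []⟩,
     ⟨33, 24, [], [], 0, 0, []⟩,
     ⟨33, 25, [], [], 0, 0, []⟩,
     ⟨33, 26, [], [], 0, 0, []⟩,
     ⟨33, 34, [33], [0, -1, -1, 0], 0, 0, []⟩,
     ⟨33, 35, [33], [-1, -1, 0, 0], 0, 0, []⟩,
     ⟨33, 36, [33], [-1, -1, 0, 0], 0, 0, []⟩,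
     ⟨33, 41, [33], [0, -1, 0, 0], 0, 0, []⟩,
     ⟨33, 42, [33], [0, -1, 0, 0], 0, 0, []⟩,
     ⟨33, 43, [33], [-1, -1, 0, 0], 0, 0, []⟩,
     ⟨33, 44, [33], [0, -1, 0, 0], 0, 0, []⟩,
     ⟨33, 45, [33], [0, -1, -2, 0], 0, 0, []⟩,
     ⟨33, 46, [33], [0, -1, 0, 0], 0, 0, []⟩,
     ⟨33, 47, [33], [0, -1, 0, 0], 0, 0, []⟩,
     ⟨34, 24, [], [], 0, 0, []⟩,
     ⟨34, 27, [], [], 0, 0, []⟩,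
     ⟨34, 30, [], [], 0, 0, []⟩,
     ⟨34, 31, [], [], 0, 0, []⟩,
     ⟨34, 33, [], [], 0, 0, []⟩,
     ⟨34, 37, [34], [-1, 0, 0, 0], 0, 0, []⟩,
     ⟨34, 38, [34], [-1, 0, 0, 0], 0, 0, []⟩,
     ⟨34, 41, [34], [0, -1, 0, 0], 0, 0, []⟩,
     ⟨34, 42, [34], [0, -1, 0, 0], 0, 0, []⟩,
     ⟨34, 43, [34], [0, -1, -2, 0], 0, 0, []⟩,
     ⟨34, 44, [34], [0, -1, 0, 0], 0, 0, []⟩,
     ⟨34, 45, [34], [-1, 0, 0, 0], 0, 0, []⟩,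
     ⟨34, 46, [34], [-1, 0, 0, 0], 0, 0, []⟩,
     ⟨34, 47, [34], [-1, 0, 0, 0], 0, 0, []⟩,
     ⟨35, 25, [], [], 0, 0, []⟩,
     ⟨35, 26, [], [], 0, 0, []⟩,
     ⟨35, 28, [], [], 0, 0, []⟩,
     ⟨35, 30, [], [], 0, 0, []⟩,
     ⟨35, 32, [], [], 0, 0, []⟩,
     ⟨35, 33, [], [], 0, 0, []⟩,
     ⟨35, 37, [35], [-1, 0, 0, 0], 0, 0, []⟩,
     ⟨35, 39, [35], [-1, 0, 0, 0], 0, 0, []⟩,
     ⟨35, 41, [35], [0, -1, 0, 0], 0, 0, []⟩,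
     ⟨35, 42, [35], [0, -1, 0, 0], 0, 0, []⟩,
     ⟨35, 43, [35], [0, 0, 0, -1], 0, 0, []⟩,
     ⟨35, 44, [35], [0, -1, 0, 0], 0, 0, []⟩,
     ⟨35, 45, [35], [-1, 0, 0, 0], 0, 0, []⟩,
     ⟨35, 46, [35], [-1, 0, 0, 0], 0, 0, []⟩,
     ⟨35, 47, [35], [-1, 0, 0, 0], 0, 0, []⟩,
     ⟨36, 24, [], [], 0, 0, []⟩,
     ⟨36, 25, [], [], 0, 0, []⟩,
     ⟨36, 26, [], [], 0, 0, []⟩,
     ⟨36, 29, [], [], 0, 0, []⟩,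
     ⟨36, 31, [], [], 0, 0, []⟩,
     ⟨36, 32, [], [], 0, 0, []⟩,
     ⟨36, 33, [], [], 0, 0, []⟩,
     ⟨36, 38, [36], [-1, 0, 0, 0], 0, 0, []⟩,
     ⟨36, 39, [36], [-1, 0, 0, 0], 0, 0, []⟩,
     ⟨36, 41, [36], [0, -1, 0, 0], 0, 0, []⟩,
     ⟨36, 42, [36], [0, -1, 0, 0], 0, 0, []⟩,
     ⟨36, 43, [36], [0, 0, 0, -1], 0, 0, []⟩,
     ⟨36, 44, [36], [0, -1, 0, 0], 0, 0, []⟩,
     ⟨36, 45, [36], [-1, 0, 0, 0], 0, 0, []⟩,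
     ⟨36, 46, [36], [-1, 0, 0, 0], 0, 0, []⟩,
     ⟨36, 47, [36], [-1, 0, 0, 0], 0, 0, []⟩,
     ⟨37, 25, [], [], 0, 0, []⟩,
     ⟨37, 27, [], [], 0, 0, []⟩,
     ⟨37, 28, [], [], 0, 0, []⟩,
     ⟨37, 30, [], [], 0, 0, []⟩,
     ⟨37, 31, [], [], 0, 0, []⟩,
     ⟨37, 32, [], [], 0, 0, []⟩,
     ⟨37, 34, [], [], 0, 0, []⟩,
     ⟨37, 35, [], [], 0, 0, []⟩,
     ⟨37, 40, [37], [0, 0, 0, -1], 0, 0, []⟩,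
     ⟨37, 41, [37], [0, -1, 0, 0], 0, 0, []⟩,
     ⟨37, 42, [37], [0, -1, 0, 0], 0, 0, []⟩,
     ⟨37, 43, [37], [0, 0, 0, -1], 0, 0, []⟩,
     ⟨37, 44, [37], [0, -1, 0, 0], 0, 0, []⟩,
     ⟨37, 45, [37], [0, 0, 0, -1], 0, 0, []⟩,
     ⟨37, 46, [37], [0, -1, 0, 0], 0, 0, []⟩,
     ⟨37, 47, [37], [0, -1, 0, 0], 0, 0, []⟩,
     ⟨38, 24, [], [], 0, 0, []⟩,
     ⟨38, 26, [], [], 0, 0, []⟩,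
     ⟨38, 27, [], [], 0, 0, []⟩,
     ⟨38, 29, [], [], 0, 0, []⟩,
     ⟨38, 30, [], [], 0, 0, []⟩,
     ⟨38, 31, [], [], 0, 0, []⟩,
     ⟨38, 32, [], [], 0, 0, []⟩,
     ⟨38, 34, [], [], 0, 0, []⟩,
     ⟨38, 36, [], [], 0, 0, []⟩,
     ⟨38, 40, [38], [0, 0, -1, 0], 0, 0, []⟩,
     ⟨38, 41, [38], [0, -1, 0, 0], 0, 0, []⟩,
     ⟨38, 42, [38], [0, -1, 0, 0], 0, 0, []⟩,
     ⟨38, 43, [38], [0, 0, 0, -1], 0, 0, []⟩,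
     ⟨38, 44, [38], [0, -1, 0, 0], 0, 0, []⟩,
     ⟨38, 45, [38], [0, 0, 0, -1], 0, 0, []⟩,
     ⟨38, 46, [38], [0, -1, 0, 0], 0, 0, []⟩,
     ⟨38, 47, [38], [0, -1, 0, 0], 0, 0, []⟩,
     ⟨39, 24, [], [], 0, 0, []⟩,
     ⟨39, 25, [], [], 0, 0, []⟩,
     ⟨39, 26, [], [], 0, 0, []⟩,
     ⟨39, 28, [], [], 0, 0, []⟩,
     ⟨39, 29, [], [], 0, 0, []⟩,
     ⟨39, 30, [], [], 0, 0, []⟩,
     ⟨39, 31, [], [], 0, 0, []⟩,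
     ⟨39, 32, [], [], 0, 0, []⟩,
     ⟨39, 35, [], [], 0, 0, []⟩,
     ⟨39, 36, [], [], 0, 0, []⟩,
     ⟨39, 40, [39], [0, 0, -1, 0], 0, 0, []⟩,
     ⟨39, 41, [39], [0, -1, 0, 0], 0, 0, []⟩,
     ⟨39, 42, [39], [0, -1, 0, 0], 0, 0, []⟩,
     ⟨39, 43, [39], [-1, -1, 0, 0], 0, 0, []⟩,
     ⟨39, 44, [39], [0, -1, 0, 0], 0, 0, []⟩,
     ⟨39, 45, [39], [0, -1, -2, 0], 0, 0, []⟩,
     ⟨39, 46, [39], [0, -1, 0, 0], 0, 0, []⟩,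
     ⟨39, 47, [39], [0, -1, 0, 0], 0, 0, []⟩,
     ⟨40, 24, [], [], 0, 0, []⟩,
     ⟨40, 25, [], [], 0, 0, []⟩,
     ⟨40, 26, [], [], 0, 0, []⟩,
     ⟨40, 27, [], [], 0, 0, []⟩,
     ⟨40, 28, [], [], 0, 0, []⟩,
     ⟨40, 29, [], [], 0, 0, []⟩,
     ⟨40, 30, [], [], 0, 0, []⟩,
     ⟨40, 31, [], [], 0, 0, []⟩,
     ⟨40, 32, [], [], 0, 0, []⟩,
     ⟨40, 37, [], [], 0, 0, []⟩,
     ⟨40, 38, [], [], 0, 0, []⟩,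
     ⟨40, 39, [], [], 0, 0, []⟩,
     ⟨40, 41, [40], [0, -1, 0, 0], 0, 0, []⟩,
     ⟨40, 42, [40], [0, -1, 0, 0], 0, 0, []⟩,
     ⟨40, 43, [40], [-1, 0, 2, 0], 0, 0, []⟩,
     ⟨40, 44, [40], [0, -1, 0, 0], 0, 0, []⟩,
     ⟨40, 45, [40], [-1, 0, 0, 0], 0, 0, []⟩,
     ⟨40, 46, [40], [-1, 0, 0, 0], 0, 0, []⟩,
     ⟨40, 47, [40], [-1, 0, 0, 0], 0, 0, []⟩,
     ⟨41, 27, [], [], 0, 0, []⟩,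
     ⟨41, 28, [], [], 0, 0, []⟩,
     ⟨41, 33, [], [], 0, 0, []⟩,
     ⟨41, 34, [], [], 0, 0, []⟩,
     ⟨41, 35, [], [], 0, 0, []⟩,
     ⟨41, 36, [], [], 0, 0, []⟩,
     ⟨41, 37, [], [], 0, 0, []⟩,
     ⟨41, 38, [], [], 0, 0, []⟩,
     ⟨41, 39, [], [], 0, 0, []⟩,
     ⟨41, 40, [], [], 0, 0, []⟩,
     ⟨41, 42, [41], [0, 0, -1, -1], 0, 0, []⟩,
     ⟨41, 43, [41], [0, 0, 0, -1], 0, 0, []⟩,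
     ⟨41, 44, [41], [0, 0, 0, -1], 0, 0, []⟩,
     ⟨41, 45, [41], [0, 0, 0, -1], 0, 0, []⟩,
     ⟨41, 46, [41], [0, 0, -1, -1], 0, 0, []⟩,
     ⟨42, 24, [], [], 0, 0, []⟩,
     ⟨42, 27, [], [], 0, 0, []⟩,
     ⟨42, 29, [], [], 0, 0, []⟩,
     ⟨42, 33, [], [], 0, 0, []⟩,
     ⟨42, 34, [], [], 0, 0, []⟩,
     ⟨42, 35, [], [], 0, 0, []⟩,
     ⟨42, 36, [], [], 0, 0, []⟩,
     ⟨42, 37, [], [], 0, 0, []⟩,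
     ⟨42, 38, [], [], 0, 0, []⟩,
     ⟨42, 39, [], [], 0, 0, []⟩,
     ⟨42, 40, [], [], 0, 0, []⟩,
     ⟨42, 41, [], [], 0, 0, []⟩,
     ⟨42, 43, [42], [0, 0, 0, -1], 0, 0, []⟩,
     ⟨42, 44, [42], [0, 0, -1, 0], 0, 0, []⟩,
     ⟨42, 45, [42], [0, 0, 0, -1], 0, 0, []⟩,
     ⟨42, 47, [42], [0, 0, -1, 0], 0, 0, []⟩,
     ⟨43, 25, [], [], 0, 0, []⟩,
     ⟨43, 26, [], [], 0, 0, []⟩,
     ⟨43, 28, [], [], 0, 0, []⟩,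
     ⟨43, 29, [], [], 0, 0, []⟩,
     ⟨43, 33, [], [], 0, 0, []⟩,
     ⟨43, 34, [], [], 0, 0, []⟩,
     ⟨43, 35, [], [], 0, 0, []⟩,
     ⟨43, 36, [], [], 0, 0, []⟩,
     ⟨43, 37, [], [], 0, 0, []⟩,
     ⟨43, 38, [], [], 0, 0, []⟩,
     ⟨43, 39, [], [], 0, 0, []⟩,
     ⟨43, 40, [], [], 0, 0, []⟩,
     ⟨43, 41, [], [], 0, 0, []⟩,
     ⟨43, 42, [], [], 0, 0, []⟩,
     ⟨43, 44, [43], [0, 0, -1, 0], 0, 0, []⟩,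
     ⟨43, 46, [43], [0, 0, -1, -1], 0, 0, []⟩,
     ⟨43, 47, [43], [0, 0, -1, 0], 0, 0, []⟩,
     ⟨44, 24, [], [], 0, 0, []⟩,
     ⟨44, 25, [], [], 0, 0, []⟩,
     ⟨44, 26, [], [], 0, 0, []⟩,
     ⟨44, 30, [], [], 0, 0, []⟩,
     ⟨44, 31, [], [], 0, 0, []⟩,
     ⟨44, 32, [], [], 0, 0, []⟩,
     ⟨44, 33, [], [], 0, 0, []⟩,
     ⟨44, 34, [], [], 0, 0, []⟩,
     ⟨44, 35, [], [], 0, 0, []⟩,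
     ⟨44, 36, [], [], 0, 0, []⟩,
     ⟨44, 37, [], [], 0, 0, []⟩,
     ⟨44, 38, [], [], 0, 0, []⟩,
     ⟨44, 39, [], [], 0, 0, []⟩,
     ⟨44, 40, [], [], 0, 0, []⟩,
     ⟨44, 41, [], [], 0, 0, []⟩,
     ⟨44, 42, [], [], 0, 0, []⟩,
     ⟨44, 43, [], [], 0, 0, []⟩,
     ⟨44, 45, [44], [-1, 0, 0, 0], 0, 0, []⟩,
     ⟨44, 46, [44], [-1, 0, 0, 0], 0, 0, []⟩,
     ⟨44, 47, [44], [-1, 0, 0, 0], 0, 0, []⟩,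
     ⟨45, 27, [], [], 0, 0, []⟩,
     ⟨45, 28, [], [], 0, 0, []⟩,
     ⟨45, 29, [], [], 0, 0, []⟩,
     ⟨45, 30, [], [], 0, 0, []⟩,
     ⟨45, 31, [], [], 0, 0, []⟩,
     ⟨45, 33, [], [], 0, 0, []⟩,
     ⟨45, 34, [], [], 0, 0, []⟩,
     ⟨45, 35, [], [], 0, 0, []⟩,
     ⟨45, 36, [], [], 0, 0, []⟩,
     ⟨45, 37, [], [], 0, 0, []⟩,
     ⟨45, 38, [], [], 0, 0, []⟩,
     ⟨45, 39, [], [], 0, 0, []⟩,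
     ⟨45, 40, [], [], 0, 0, []⟩,
     ⟨45, 41, [], [], 0, 0, []⟩,
     ⟨45, 42, [], [], 0, 0, []⟩,
     ⟨45, 44, [], [], 0, 0, []⟩,
     ⟨45, 46, [45], [0, 0, -1, -1], 0, 0, []⟩,
     ⟨45, 47, [45], [0, 0, -1, 0], 0, 0, []⟩,
     ⟨46, 25, [], [], 0, 0, []⟩,
     ⟨46, 27, [], [], 0, 0, []⟩,
     ⟨46, 28, [], [], 0, 0, []⟩,
     ⟨46, 29, [], [], 0, 0, []⟩,
     ⟨46, 30, [], [], 0, 0, []⟩,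
     ⟨46, 32, [], [], 0, 0, []⟩,
     ⟨46, 33, [], [], 0, 0, []⟩,
     ⟨46, 34, [], [], 0, 0, []⟩,
     ⟨46, 35, [], [], 0, 0, []⟩,
     ⟨46, 36, [], [], 0, 0, []⟩,
     ⟨46, 37, [], [], 0, 0, []⟩,
     ⟨46, 38, [], [], 0, 0, []⟩,
     ⟨46, 39, [], [], 0, 0, []⟩,
     ⟨46, 40, [], [], 0, 0, []⟩,
     ⟨46, 41, [], [], 0, 0, []⟩,
     ⟨46, 43, [], [], 0, 0, []⟩,
     ⟨46, 44, [], [], 0, 0, []⟩,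
     ⟨46, 45, [], [], 0, 0, []⟩,
     ⟨46, 47, [46], [0, 0, -1, 0], 0, 0, []⟩,
     ⟨47, 24, [], [], 0, 0, []⟩,
     ⟨47, 26, [], [], 0, 0, []⟩,
     ⟨47, 27, [], [], 0, 0, []⟩,
     ⟨47, 28, [], [], 0, 0, []⟩,
     ⟨47, 29, [], [], 0, 0, []⟩,
     ⟨47, 31, [], [], 0, 0, []⟩,
     ⟨47, 32, [], [], 0, 0, []⟩,
     ⟨47, 33, [], [], 0, 0, []⟩,
     ⟨47, 34, [], [], 0, 0, []⟩,
     ⟨47, 35, [], [], 0, 0, []⟩,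
     ⟨47, 36, [], [], 0, 0, []⟩,
     ⟨47, 37, [], [], 0, 0, []⟩,
     ⟨47, 38, [], [], 0, 0, []⟩,
     ⟨47, 39, [], [], 0, 0, []⟩,
     ⟨47, 40, [], [], 0, 0, []⟩,
     ⟨47, 42, [], [], 0, 0, []⟩,
     ⟨47, 43, [], [], 0, 0, []⟩,
     ⟨47, 44, [], [], 0, 0, []⟩,
     ⟨47, 45, [], [], 0, 0, []⟩,
     ⟨47, 46, [], [], 0, 0, []⟩,
     ⟨24, 25, [24, 26], [0, -1, -1, 0], 0, 0, []⟩,
     ⟨24, 30, [24, 31], [0, 0, -1, 0], 0, 0, []⟩,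
     ⟨24, 41, [24, 42], [0, 0, -1, 0], 0, 0, []⟩,
     ⟨24, 46, [24, 47], [0, 0, -1, -1], 0, 0, []⟩,
     ⟨25, 24, [26], [], 0, 0, []⟩,
     ⟨25, 31, [25, 32], [0, 0, -1, -1], 0, 0, []⟩,
     ⟨25, 42, [25, 43], [0, 0, -1, -1], 0, 0, []⟩,
     ⟨25, 45, [25, 46], [0, 0, 0, -1], 0, 0, []⟩,
     ⟨26, 30, [26, 32], [0, 0, -1, 0], 0, 0, []⟩,
     ⟨26, 41, [26, 43], [0, 0, -1, 0], 0, 0, []⟩,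
     ⟨26, 45, [26, 47], [0, 0, 0, -1], 0, 0, []⟩,
     ⟨27, 28, [27, 30], [-1, 0, 0, 1], 0, 0, []⟩,
     ⟨27, 29, [27, 31], [0, 0, -1, 0], 0, 0, []⟩,
     ⟨27, 33, [27, 34], [0, 0, -1, 0], 0, 0, []⟩,
     ⟨27, 35, [27, 37], [-1, -1, 0, 0], 0, 0, []⟩,
     ⟨27, 36, [27, 38], [0, 0, -1, 0], 0, 0, []⟩,
     ⟨27, 39, [27, 40], [-1, 0, 0, 0], 0, 0, []⟩,
     ⟨27, 44, [27, 45], [0, 0, -1, 0], 0, 0, []⟩,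
     ⟨28, 27, [30], [], 0, 0, []⟩,
     ⟨28, 29, [28, 32], [0, 0, -1, 0], 0, 0, []⟩,
     ⟨28, 33, [28, 35], [0, 0, -1, 0], 0, 0, []⟩,
     ⟨28, 34, [28, 37], [0, 0, 0, -1], 0, 0, []⟩,
     ⟨28, 36, [28, 39], [0, 0, -1, 0], 0, 0, []⟩,
     ⟨28, 38, [28, 40], [-1, 0, 0, 0], 0, 0, []⟩,
     ⟨28, 44, [28, 46], [0, 0, -1, 0], 0, 0, []⟩,
     ⟨29, 27, [31], [], 0, 0, []⟩,
     ⟨29, 28, [32], [], 0, 0, []⟩,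
     ⟨29, 33, [29, 36], [0, 0, 0, -1], 0, 0, []⟩,
     ⟨29, 34, [29, 38], [0, 0, 0, -1], 0, 0, []⟩,
     ⟨29, 35, [29, 39], [-1, -1, 0, 0], 0, 0, []⟩,
     ⟨29, 37, [29, 40], [-1, 0, 0, 0], 0, 0, []⟩,
     ⟨29, 44, [29, 47], [0, 0, 0, -1], 0, 0, []⟩,
     ⟨30, 24, [31], [], 0, 0, []⟩,
     ⟨30, 26, [32], [], 0, 0, []⟩,
     ⟨30, 42, [30, 45], [0, 0, -1, -1], 0, 0, []⟩,
     ⟨30, 43, [30, 46], [0, 0, 0, -1], 0, 0, []⟩,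
     ⟨31, 25, [32], [], 0, 0, []⟩,
     ⟨31, 41, [31, 45], [0, 0, -1, 0], 0, 0, []⟩,
     ⟨31, 43, [31, 47], [0, 0, 0, -1], 0, 0, []⟩,
     ⟨32, 41, [32, 46], [0, 0, -1, 0], 0, 0, []⟩,
     ⟨32, 42, [32, 47], [0, 0, -1, -1], 0, 0, []⟩,
     ⟨33, 27, [34], [], 0, 0, []⟩,
     ⟨33, 28, [35], [], 0, 0, []⟩,
     ⟨33, 29, [36], [], 0, 0, []⟩,
     ⟨33, 37, [33, 41], [0, -1, 0, -1], 0, 0, []⟩,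
     ⟨33, 38, [33, 42], [0, -1, -1, 0], 0, 0, []⟩,
     ⟨33, 39, [33, 43], [0, -1, -1, 0], 0, 0, []⟩,
     ⟨33, 40, [33, 44], [-1, -1, 0, 0], 0, 0, []⟩,
     ⟨34, 28, [37], [], 0, 0, []⟩,
     ⟨34, 29, [38], [], 0, 0, []⟩,
     ⟨34, 35, [34, 41], [-1, 0, 0, -1], 0, 0, []⟩,
     ⟨34, 36, [34, 42], [0, 0, -1, 0], 0, 0, []⟩,
     ⟨34, 39, [34, 44], [-1, 0, 0, 0], 0, 0, []⟩,
     ⟨34, 40, [34, 45], [0, 0, -1, 0], 0, 0, []⟩,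
     ⟨35, 27, [37], [], 0, 0, []⟩,
     ⟨35, 29, [39], [], 0, 0, []⟩,
     ⟨35, 34, [41], [], 0, 0, []⟩,
     ⟨35, 36, [35, 43], [0, 0, -1, 0], 0, 0, []⟩,
     ⟨35, 38, [35, 44], [-1, 0, 0, 0], 0, 0, []⟩,
     ⟨35, 40, [35, 46], [0, 0, -1, 0], 0, 0, []⟩,
     ⟨36, 27, [38], [], 0, 0, []⟩,
     ⟨36, 28, [39], [], 0, 0, []⟩,
     ⟨36, 34, [42], [], 0, 0, []⟩,
     ⟨36, 35, [43], [], 0, 0, []⟩,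
     ⟨36, 37, [36, 44], [-1, 0, 0, 0], 0, 0, []⟩,
     ⟨36, 40, [36, 47], [0, 0, 0, -1], 0, 0, []⟩,
     ⟨37, 29, [40], [], 0, 0, []⟩,
     ⟨37, 33, [41], [], 0, 0, []⟩,
     ⟨37, 36, [44], [], 0, 0, []⟩,
     ⟨37, 38, [37, 45], [0, -1, -1, 0], 0, 0, []⟩,
     ⟨37, 39, [37, 46], [0, 0, 0, -1], 0, 0, []⟩,
     ⟨38, 28, [40], [], 0, 0, []⟩,
     ⟨38, 33, [42], [], 0, 0, []⟩,
     ⟨38, 35, [44], [], 0, 0, []⟩,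
     ⟨38, 37, [45], [], 0, 0, []⟩,
     ⟨38, 39, [38, 47], [0, 0, 0, -1], 0, 0, []⟩,
     ⟨39, 27, [40], [], 0, 0, []⟩,
     ⟨39, 33, [43], [], 0, 0, []⟩,
     ⟨39, 34, [44], [], 0, 0, []⟩,
     ⟨39, 37, [46], [], 0, 0, []⟩,
     ⟨39, 38, [47], [], 0, 0, []⟩,
     ⟨40, 33, [44], [], 0, 0, []⟩,
     ⟨40, 34, [45], [], 0, 0, []⟩,
     ⟨40, 35, [46], [], 0, 0, []⟩,
     ⟨40, 36, [47], [], 0, 0, []⟩,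
     ⟨41, 24, [42], [], 0, 0, []⟩,
     ⟨41, 26, [43], [], 0, 0, []⟩,
     ⟨41, 30, [41], [-1, -1, 0, 0], 27, 28, [27, 28, 30]⟩,
     ⟨41, 31, [45], [], 0, 0, []⟩,
     ⟨41, 32, [46], [], 0, 0, []⟩,
     ⟨41, 47, [41], [-1, 0, 0, 0], 36, 40, [36, 40, 47]⟩,
     ⟨42, 25, [43], [], 0, 0, []⟩,
     ⟨42, 30, [45], [], 0, 0, []⟩,
     ⟨42, 31, [42], [-1, -1, 0, 0], 27, 29, [27, 29, 31]⟩,
     ⟨42, 32, [47], [], 0, 0, []⟩,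
     ⟨42, 46, [42], [-1, 0, 0, 0], 35, 40, [35, 40, 46]⟩,
     ⟨43, 30, [46], [], 0, 0, []⟩,
     ⟨43, 31, [47], [], 0, 0, []⟩,
     ⟨43, 32, [43], [0, -1, 0, 0], 28, 29, [28, 29, 32]⟩,
     ⟨43, 45, [43], [-1, 0, 0, 0], 34, 40, [34, 40, 45]⟩,
     ⟨44, 27, [45], [], 0, 0, []⟩,
     ⟨44, 28, [46], [], 0, 0, []⟩,
     ⟨44, 29, [47], [], 0, 0, []⟩,
     ⟨45, 25, [46], [], 0, 0, []⟩,
     ⟨45, 26, [47], [], 0, 0, []⟩,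
     ⟨45, 32, [45], [0, -1, 0, 0], 28, 29, [28, 29, 32]⟩,
     ⟨45, 43, [], [], 0, 0, []⟩,
     ⟨46, 24, [47], [], 0, 0, []⟩,
     ⟨46, 31, [46], [-1, 0, 0, -2], 27, 29, [27, 29, 31]⟩,
     ⟨46, 42, [], [], 0, 0, []⟩,
     ⟨47, 30, [47], [-1, 0, 0, 2], 27, 28, [27, 28, 30]⟩,
     ⟨47, 41, [], [], 0, 0, []⟩,
     ⟨24, 43, [24], [0, 0, 0, -1], 33, 39, [33, 39, 43]⟩,
     ⟨24, 45, [24], [0, 0, 0, -1], 27, 44, [27, 44, 45]⟩,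
     ⟨25, 41, [25], [0, -1, 0, 0], 33, 37, [33, 37, 41]⟩,
     ⟨25, 47, [25], [0, -1, 0, 0], 29, 44, [29, 44, 47]⟩,
     ⟨26, 42, [26], [0, -1, 0, 0], 33, 38, [33, 38, 42]⟩,
     ⟨26, 46, [26], [0, -1, 0, 0], 28, 44, [28, 44, 46]⟩,
     ⟨27, 25, [27, 28, 30], [-1, 0, 0, 0], 0, 0, []⟩,
     ⟨27, 26, [27, 29, 31], [-1, 0, 0, 0], 0, 0, []⟩,
     ⟨27, 43, [27, 44, 45], [-1, -1, 0, 0], 0, 0, []⟩,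
     ⟨28, 24, [28, 29, 32], [-1, 0, 0, 0], 0, 0, []⟩,
     ⟨28, 42, [28, 44, 46], [-1, 0, -2, 0], 0, 0, []⟩,
     ⟨29, 41, [29, 44, 47], [-1, 0, 0, -2], 0, 0, []⟩,
     ⟨30, 41, [], [], 0, 0, []⟩,
     ⟨30, 47, [], [], 0, 0, []⟩,
     ⟨31, 42, [], [], 0, 0, []⟩,
     ⟨31, 46, [], [], 0, 0, []⟩,
     ⟨32, 43, [], [], 0, 0, []⟩,
     ⟨32, 45, [], [], 0, 0, []⟩,
     ⟨33, 30, [33, 37, 41], [-1, -1, 0, 0], 0, 0, []⟩,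
     ⟨33, 31, [33, 38, 42], [-1, -1, 0, 0], 0, 0, []⟩,
     ⟨33, 32, [33, 39, 43], [0, -1, 0, 0], 0, 0, []⟩,
     ⟨34, 25, [34, 35, 41], [-1, 0, 0, 0], 0, 0, []⟩,
     ⟨34, 26, [34, 36, 42], [-1, 0, 0, 0], 0, 0, []⟩,
     ⟨34, 32, [34, 40, 45], [0, -1, 0, 0], 0, 0, []⟩,
     ⟨35, 24, [35, 36, 43], [-1, 0, 0, 0], 0, 0, []⟩,
     ⟨35, 31, [35, 40, 46], [-1, 0, 0, -2], 0, 0, []⟩,
     ⟨36, 30, [36, 40, 47], [-1, 0, 0, 2], 0, 0, []⟩,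
     ⟨37, 24, [37, 38, 45], [0, -1, 0, 0], 0, 0, []⟩,
     ⟨37, 26, [37, 39, 46], [0, 0, -1, 1], 0, 0, []⟩,
     ⟨38, 25, [38, 39, 47], [0, -1, 0, 2], 0, 0, []⟩,
     ⟨41, 25, [], [], 0, 0, []⟩,
     ⟨41, 29, [44, 47], [], 0, 0, []⟩,
     ⟨42, 26, [], [], 0, 0, []⟩,
     ⟨42, 28, [44, 46], [], 0, 0, []⟩,
     ⟨43, 24, [], [], 0, 0, []⟩,
     ⟨43, 27, [44, 45], [], 0, 0, []⟩,
     ⟨45, 24, [], [], 0, 0, []⟩,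
     ⟨46, 26, [], [], 0, 0, []⟩,
     ⟨47, 25, [], [], 0, 0, []⟩,
     ⟨24, 28, [29, 32], [], 0, 0, []⟩,
     ⟨24, 32, [24], [0, 0, 0, -1], 28, 29, [28, 29, 32]⟩,
     ⟨24, 35, [36, 43], [], 0, 0, []⟩,
     ⟨24, 37, [38, 45], [], 0, 0, []⟩,
     ⟨25, 27, [28, 30], [], 0, 0, []⟩,
     ⟨25, 30, [25], [0, 0, -1, 0], 27, 28, [27, 28, 30]⟩,
     ⟨25, 34, [35, 41], [], 0, 0, []⟩,
     ⟨25, 38, [39, 47], [], 0, 0, []⟩,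
     ⟨26, 27, [29, 31], [], 0, 0, []⟩,
     ⟨26, 31, [26], [-1, -1, 0, 0], 27, 29, [27, 29, 31]⟩,
     ⟨26, 34, [36, 42], [], 0, 0, []⟩,
     ⟨26, 37, [39, 46], [], 0, 0, []⟩,
     ⟨30, 25, [], [], 0, 0, []⟩,
     ⟨30, 33, [37, 41], [], 0, 0, []⟩,
     ⟨30, 36, [40, 47], [], 0, 0, []⟩,
     ⟨31, 26, [], [], 0, 0, []⟩,
     ⟨31, 33, [38, 42], [], 0, 0, []⟩,
     ⟨31, 35, [40, 46], [], 0, 0, []⟩,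
     ⟨32, 24, [], [], 0, 0, []⟩,
     ⟨32, 33, [39, 43], [], 0, 0, []⟩,
     ⟨32, 34, [40, 45], [], 0, 0, []⟩]
  
/-- Cocharacters pairing to one with each root. -/
def scalTabG2 : List (List ℤ) :=
  [[0, -1], [0, 1], [-1, 0], [0, -1], [0, 1], [1, 1], [-1, -1], [0, -1], [-1, 0], [1, 0], [0, -1], [0, 1]]

/-- Cocharacters pairing to one with each root. -/
def scalTabF4 : List (List ℤ) :=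
  [[0, 0, 0, -1], [0, 0, -1, 0], [0, 0, 1, 0], [-1, 0, 0, 0], [0, 0, -1, 0], [0, 0, 0, -1], [0, 0, 0, 1], [0, -1, 0, 0], [0, 0, -1, 0], [0, -1, 0, 0], [0, -1, 0, 0], [-1, 0, 0, 0], [-1, 0, 0, 0], [-1, 0, 0, 0], [0, 1, 0, 0], [0, 0, -1, 0], [0, 0, 0, -1], [0, 0, 0, 1], [0, 0, 0, -1], [0, 0, -1, 0], [0, 0, 1, 0], [0, 0, -1, 0], [0, 0, 0, 1], [0, 0, 1, 0], [0, 0, -1, 0], [0, 0, 0, -1], [0, 0, 0, 1], [-1, 0, 0, 0], [-1, 0, 0, 0], [-1, 0, 0, 0], [0, 0, 0, -1], [0, 0, -1, 0], [0, 0, 1, 0], [0, -1, 0, 0], [0, 0, -1, 0], [0, -1, 0, 0], [0, -1, 0, 0], [0, 0, 0, -1], [0, 0, -1, 0], [0, -1, 0, 0], [-1, 0, 0, 0], [0, 0, 0, -1], [0, 0, -1, 0], [0, 0, 1, 0], [1, 0, 0, 0], [0, 0, -1, 0], [0, 0, 0, -1], [0, 0, 0, 1]]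

/-- Pairs of roots with a single commutator term commuting with both. -/
def abelTabF4 : List (ℕ × ℕ) :=
  [(1, 23), (0, 24), (0, 26), (7, 14), (0, 31), (0, 32), (1, 32), (3, 33), (3, 34), (3, 35), (3, 36), (3, 37), (3, 38), (3, 39), (3, 40), (0, 42), (0, 43), (1, 43), (7, 37), (7, 38), (7, 39), (0, 45), (1, 45), (0, 46), (1, 47), (2, 46), (2, 47), (8, 40), (9, 40), (10, 40), (4, 46), (4, 47), (5, 47), (7, 44), (8, 44), (9, 44), (10, 44), (11, 44), (12, 44), (13, 44), (14, 44), (15, 46), (15, 47), (16, 47), (33, 40), (21, 47), (23, 47), (24, 46)]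

/-- Check of the cocharacters. -/
def chkScal (D : ChevalleyDatum) (tbl : List (List ℤ)) : Bool :=
  (List.range D.nroots).all fun r => decide (cop D (tbl.getD r []) r = 1)

/-- Check of the table of commutators. -/
def chkAbel (D : ChevalleyDatum) (tbl : List (ℕ × ℕ)) : Bool :=
  (List.range D.nroots).all fun r =>
    let a := (tbl.getD r (0, 0)).1
    let b := (tbl.getD r (0, 0)).2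
    decide (a < D.nroots ∧ b < D.nroots ∧ b ≠ a ∧ b ≠ D.neg a ∧ r ≠ a ∧ r ≠ D.neg a ∧ r ≠ b ∧
        r ≠ D.neg b) &&
      (decide (D.commTerms a b = [(r, 1, 1, 1)]) || decide (D.commTerms a b = [(r, -1, 1, 1)])) &&
      decide (D.commTerms a r = []) && decide (D.commTerms b r = [])

/-- Check that only allowed exponents occur without an alternative. -/
def chkExp (D : ChevalleyDatum) (L : List PairStep) (ds : List ℕ) : Bool :=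
  L.all fun p => p.n.isEmpty || !p.Q.isEmpty || decide ((cop D p.n p.r).natAbs ∈ ds)

theorem chkScal_G2 : chkScal Cfsg.Lie.chevG2 scalTabG2 = true := by decide +kernel
theorem chkScal_F4 : chkScal Cfsg.Lie.chevF4 scalTabF4 = true := by decide +kernel
theorem chkAbel_F4 : chkAbel Cfsg.Lie.chevF4 abelTabF4 = true := by decide +kernel
theorem chkExp_G2 : chkExp Cfsg.Lie.chevG2 pairStepsG2 [1, 2, 3] = true := by decide +kernel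
theorem chkExp_F4 : chkExp Cfsg.Lie.chevF4 pairStepsF4 [1] = true := by decide +kernel
theorem chkSteps_G2 : chkSteps Cfsg.Lie.chevG2 [] pairStepsG2 = true := by decide +kernel
theorem chkSteps_F4 : chkSteps Cfsg.Lie.chevF4 [] pairStepsF4 = true := by decide +kernel
theorem chkA2_G2 : chkRootA2 Cfsg.Lie.chevG2 6 10 11 1 = true := by decide +kernel
theorem chkA2_F4 : chkRootA2 Cfsg.Lie.chevF4 33 27 34 (-1) = true ∧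
    chkRootA2 Cfsg.Lie.chevF4 27 33 34 1 = true ∧ chkRootA2 Cfsg.Lie.chevF4 25 24 26 (-1) = true ∧
    chkRootA2 Cfsg.Lie.chevF4 24 25 26 1 = true := by decide +kernel

end CfsgLib.ChevMult
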